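import Mathlib

/-!
Elementary counting lemmas: generated commutative groups and commutator sets over a kernel.
-/

set_option autoImplicit false

namespace CfsgLib.FixedDerived

open Subgroup
open scoped commutatorElement

theorem card_sup_le_mul {M : Type*} [CommGroup M] [Finite M] (H K : Subgroup M) :
    Nat.card ↥(H ⊔ K) ≤ Nat.card H * Nat.card K := by
  rw [← Nat.card_prod]
  refine Nat.card_le_card_of_surjective
    (fun x : H × K => (⟨x.1 * x.2, mul_mem (mem_sup_left x.1.2) (mem_sup_right x.2.2)⟩ : ↥(H ⊔ K))) ?_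
  rintro ⟨m, hm⟩
  obtain ⟨h, hh, k, hk, rfl⟩ := mem_sup.1 hm
  exact ⟨(⟨h, hh⟩, ⟨k, hk⟩), rfl⟩

theorem card_biSup_le_prod {M : Type*} [CommGroup M] [Finite M] {ι : Type*} (s : Finset ι)
    (Z : ι → Subgroup M) : Nat.card ↥(⨆ i ∈ s, Z i) ≤ ∏ i ∈ s, Nat.card (Z i) := by
  classical
  induction s using Finset.induction_on with
  | empty => simp
  | insert a t hat ih =>
    rw [Finset.iSup_insert, Finset.prod_insert hat]
    exact (card_sup_le_mul _ _).trans (Nat.mul_le_mul_left _ ih)

theorem card_le_prod_of_top {M : Type*} [CommGroup M] [Finite M] {ι : Type*} [Fintype ι]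
    (Z : ι → Subgroup M) (h : (⊤ : Subgroup M) ≤ ⨆ i, Z i) :
    Nat.card M ≤ ∏ i, Nat.card (Z i) := by
  have h' := card_biSup_le_prod Finset.univ Z
  simp only [Finset.mem_univ, iSup_pos] at h'
  rw [top_le_iff.1 h] at h'
  simpa using h'

/-- The order of a group with a bounded generating set of bounded element orders, modulo `G'`. -/
theorem card_abelianization_le {D : Type*} [Group D] [Finite D] {N m : ℕ} (hm : 1 ≤ m) (T : Set D)
    (hT : closure T = ⊤) (hN : Nat.card T ≤ N) (ho : ∀ t ∈ T, orderOf t ≤ m) :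
    Nat.card (Abelianization D) ≤ m ^ N := by
  classical
  haveI : Fintype T := Fintype.ofFinite T
  have h := card_le_prod_of_top (fun t : T => zpowers (Abelianization.of (t : D))) (by
    rw [← Subgroup.map_top_of_surjective (Abelianization.of (G := D)) QuotientGroup.mk_surjective,
      ← hT, MonoidHom.map_closure, closure_le]
    rintro _ ⟨t, ht, rfl⟩
    exact mem_iSup_of_mem (⟨t, ht⟩ : T) (mem_zpowers _))
  refine h.trans ?_
  calc ∏ t : T, Nat.card (zpowers (Abelianization.of (t : D))) ≤ ∏ _t : T, m :=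
        Finset.prod_le_prod' fun t _ => by
          rw [Nat.card_zpowers]
          exact (Nat.le_of_dvd (orderOf_pos _) (orderOf_map_dvd _ _)).trans (ho t t.2)
    _ ≤ m ^ N := by
      rw [Finset.prod_const, Finset.card_univ, ← Nat.card_eq_fintype_card]
      exact Nat.pow_le_pow_right hm hN

theorem card_commutatorSet_le {D H : Type*} [Group D] [Finite D] [Group H] [Finite H] (ρ : D →* H)
    (hρ : ρ.ker ≤ center D) : Nat.card (commutatorSet D) ≤ Nat.card H * Nat.card H := by
  classical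
  rw [← Nat.card_prod]
  have hc : ∀ a a' b : D, ρ a = ρ a' → ⁅a, b⁆ = ⁅a', b⁆ ∧ ⁅b, a⁆ = ⁅b, a'⁆ := by
    intro a a' b h
    have hz : a'⁻¹ * a ∈ center D := hρ (by rw [MonoidHom.mem_ker, map_mul, map_inv, h, inv_mul_cancel])
    set z := a'⁻¹ * a with hz0
    have hzc := mem_center_iff.1 hz
    have ha : a = a' * z := by rw [hz0, mul_inv_cancel_left]
    constructor
    · rw [ha, commutatorElement_def, commutatorElement_def]
      calc a' * z * b * (a' * z)⁻¹ * b⁻¹ = a' * (z * b) * z⁻¹ * a'⁻¹ * b⁻¹ := by group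
        _ = a' * (b * z) * z⁻¹ * a'⁻¹ * b⁻¹ := by rw [hzc b]
        _ = a' * b * a'⁻¹ * b⁻¹ := by group
    · rw [ha, commutatorElement_def, commutatorElement_def]
      calc b * (a' * z) * b⁻¹ * (a' * z)⁻¹ = b * a' * (z * b⁻¹) * z⁻¹ * a'⁻¹ := by group
        _ = b * a' * (b⁻¹ * z) * z⁻¹ * a'⁻¹ := by rw [hzc b⁻¹]
        _ = b * a' * b⁻¹ * a'⁻¹ := by group
  have hex : ∀ g : commutatorSet D, ∃ p : D × D, ⁅p.1, p.2⁆ = (g : D) := fun g => by
    obtain ⟨x, y, h⟩ := g.2
    exact ⟨(x, y), h⟩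
  choose P hP using hex
  refine Nat.card_le_card_of_injective (fun g => (ρ (P g).1, ρ (P g).2)) fun g g' h => ?_
  obtain ⟨h1, h2⟩ := Prod.ext_iff.1 h
  apply Subtype.ext
  rw [← hP g, ← hP g', (hc _ _ _ h1).1, (hc _ _ _ h2).2]

end CfsgLib.FixedDerived
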