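import Cfsg.Agent.Lib.LocalEven.CoprimeGen
import Cfsg.Agent.Lib.FixedDerived.Counting

/-!
Coprime action of an elementary abelian group of order `q ^ 3`: the derived subgroup has bounded
order when those of the fixed point subgroups have.
-/

set_option autoImplicit false

namespace CfsgLib.FixedDerived

open Subgroup Cfsg
open scoped commutatorElement

variable {Γ : Type*} [Group Γ]

/-- A pair of elements of `A` generating a plane. -/
def Plane (A : Subgroup Γ) : Type _ :=
  {p : A × A // (p.1 : Γ) ≠ 1 ∧ (p.2 : Γ) ∉ zpowers (p.1 : Γ)}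

def plane {A : Subgroup Γ} (i : Plane A) : Subgroup Γ :=
  zpowers (i.1.1 : Γ) ⊔ zpowers (i.1.2 : Γ)

theorem plane_le {A : Subgroup Γ} (i : Plane A) : plane i ≤ A :=
  sup_le (zpowers_le.2 i.1.1.2) (zpowers_le.2 i.1.2.2)

variable {q : ℕ} [hq : Fact q.Prime] {A G : Subgroup Γ}

theorem card_plane [Finite Γ] (hA : IsElementaryAbelian q A) (i : Plane A) :
    Nat.card (plane i) = q ^ 2 := by
  have hel : IsElementaryAbelian q (plane i) :=
    ⟨⟨⟨fun x y => Subtype.ext
        (CfsgLib.PGroup.elemAb_comm hA (plane_le i x.2) (plane_le i y.2))⟩⟩,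
      fun x hx => hA.2 x (plane_le i hx)⟩
  have ho : orderOf (i.1.1 : Γ) = q := orderOf_eq_prime (hA.2 _ i.1.1.2) i.2.1
  have hlt : zpowers (i.1.1 : Γ) < plane i :=
    lt_of_le_of_ne le_sup_left fun h => i.2.2 (h ▸ mem_sup_right (mem_zpowers _))
  have h1 : q < Nat.card (plane i) := by
    refine lt_of_le_of_ne ?_ fun h => hlt.ne (eq_of_le_of_card_ge hlt.le ?_)
    · rw [← ho, ← Nat.card_zpowers]; exact card_le_of_le hlt.le
    · rw [Nat.card_zpowers, ho, h]
  obtain ⟨k, hk⟩ := CfsgLib.PGroup.elemAb_card hel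
  have h2 : Nat.card (plane i) ≤ q * q := by
    haveI := hA.1
    let f : zpowers (i.1.1 : Γ) × zpowers (i.1.2 : Γ) → plane i := fun x =>
      ⟨x.1 * x.2, mul_mem (mem_sup_left x.1.2) (mem_sup_right x.2.2)⟩
    have hf : Function.Surjective f := by
      let S : Subgroup Γ :=
        { carrier := {g | ∃ x ∈ zpowers (i.1.1 : Γ), ∃ y ∈ zpowers (i.1.2 : Γ), x * y = g}
          one_mem' := ⟨1, one_mem _, 1, one_mem _, one_mul _⟩
          mul_mem' := by
            rintro _ _ ⟨x, hx, y, hy, rfl⟩ ⟨x', hx', y', hy', rfl⟩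
            refine ⟨x * x', mul_mem hx hx', y * y', mul_mem hy hy', ?_⟩
            have hc := CfsgLib.PGroup.elemAb_comm hA (zpowers_le.2 i.1.2.2 hy) (zpowers_le.2 i.1.1.2 hx')
            calc x * x' * (y * y') = x * (x' * y) * y' := by group
              _ = x * (y * x') * y' := by rw [hc]
              _ = x * y * (x' * y') := by group
          inv_mem' := by
            rintro _ ⟨x, hx, y, hy, rfl⟩
            refine ⟨x⁻¹, inv_mem hx, y⁻¹, inv_mem hy, ?_⟩
            rw [mul_inv_rev, CfsgLib.PGroup.elemAb_comm hA (inv_mem (zpowers_le.2 i.1.1.2 hx))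
              (inv_mem (zpowers_le.2 i.1.2.2 hy))] }
      have hle : plane i ≤ S :=
        sup_le (fun x hx => ⟨x, hx, 1, one_mem _, mul_one x⟩)
          (fun y hy => ⟨1, one_mem _, y, hy, one_mul y⟩)
      rintro ⟨g, hg⟩
      obtain ⟨x, hx, y, hy, rfl⟩ := hle hg
      exact ⟨(⟨x, hx⟩, ⟨y, hy⟩), rfl⟩
    refine (Nat.card_le_card_of_surjective f hf).trans ?_
    rw [Nat.card_prod, Nat.card_zpowers, Nat.card_zpowers, ho]
    exact Nat.mul_le_mul_left _ (Nat.le_of_dvd hq.out.pos (orderOf_dvd_of_pow_eq_one (hA.2 _ i.1.2.2)))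
  rw [hk] at h1 h2 ⊢
  have hk1 : 1 < k := (Nat.pow_lt_pow_iff_right hq.out.one_lt).1 (by simpa using h1)
  have hk2 : k ≤ 2 := (Nat.pow_le_pow_iff_right hq.out.one_lt).1 (by rw [sq]; exact h2)
  rw [show k = 2 by omega]

theorem exists_common [Finite Γ] (hA : IsElementaryAbelian q A) (hcard : Nat.card A = q ^ 3)
    (i j : Plane A) : ∃ e ∈ A, e ≠ 1 ∧ e ∈ plane i ∧ e ∈ plane j := by
  by_contra h
  push Not at h
  have hinj : Function.Injective (fun x : plane i × plane j =>
      (⟨x.1 * x.2, mul_mem (plane_le i x.1.2) (plane_le j x.2.2)⟩ : A)) := by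
    rintro ⟨x, y⟩ ⟨x', y'⟩ he
    have he' : (x : Γ) * y = x' * y' := congrArg Subtype.val he
    have h1 : (x' : Γ)⁻¹ * x = y' * (y : Γ)⁻¹ := by
      rw [eq_mul_inv_iff_mul_eq, mul_assoc, he', inv_mul_cancel_left]
    have h2 : (x' : Γ)⁻¹ * x = 1 := by
      by_contra hne
      exact h _ (plane_le i (mul_mem (inv_mem x'.2) x.2)) hne (mul_mem (inv_mem x'.2) x.2)
        (h1 ▸ mul_mem y'.2 (inv_mem y.2))
    have hx : x = x' := Subtype.ext (inv_mul_eq_one.1 h2).symm
    refine Prod.ext hx (Subtype.ext ?_)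
    rw [hx] at he'
    exact mul_left_cancel he'
  have h3 := Nat.card_le_card_of_injective _ hinj
  rw [Nat.card_prod, card_plane hA, card_plane hA, hcard, ← pow_add] at h3
  have := (Nat.pow_le_pow_iff_right hq.out.one_lt).1 h3
  omega

/-- The fixed points of a plane. -/
def fixG (G : Subgroup Γ) {A : Subgroup Γ} (i : Plane A) : Subgroup Γ :=
  G ⊓ centralizer (plane i : Set Γ)

theorem mem_centralizer_plane {i : Plane A} {r : Γ} (h1 : (i.1.1 : Γ) * r = r * i.1.1)
    (h2 : (i.1.2 : Γ) * r = r * i.1.2) : r ∈ centralizer (plane i : Set Γ) := by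
  rw [mem_centralizer_iff]
  intro x hx
  have hle : plane i ≤ centralizer {r} :=
    sup_le (zpowers_le.2 (mem_centralizer_singleton_iff.2 h1))
      (zpowers_le.2 (mem_centralizer_singleton_iff.2 h2))
  exact mem_centralizer_singleton_iff.1 (hle hx)

theorem le_normalizer_fixG (hA : IsElementaryAbelian q A) [G.Normal] (i : Plane A) :
    A ≤ normalizer (fixG G i : Set Γ) := by
  intro u hu
  rw [mem_normalizer_iff]
  intro r
  have hc : u ∈ centralizer (plane i : Set Γ) :=
    mem_centralizer_iff.2 fun x hx => CfsgLib.PGroup.elemAb_comm hA (plane_le i hx) hu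
  constructor
  · intro h
    exact ⟨Normal.conj_mem ‹_› r h.1 u, mul_mem (mul_mem hc h.2) (Subgroup.inv_mem _ hc)⟩
  · intro h
    refine ⟨?_, ?_⟩
    · simpa [mul_assoc] using Normal.conj_mem ‹_› _ h.1 u⁻¹
    · have := mul_mem (mul_mem (inv_mem hc) h.2) hc
      simpa [mul_assoc] using this

/-- An invariant subgroup of `G` is generated by its fixed points under planes. -/
theorem le_of_planes [Finite Γ] [G.Normal] (hA : IsElementaryAbelian q A)
    (hcard : Nat.card A = q ^ 3) (hcop : ¬ q ∣ Nat.card G) {R H : Subgroup Γ} (hR : R ≤ G)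
    (hAR : A ≤ normalizer (R : Set Γ)) (h : ∀ i : Plane A, R ⊓ fixG G i ≤ H) : R ≤ H := by
  classical
  have hnc : ¬ IsCyclic ↥A := by
    intro hc
    obtain ⟨g, hg⟩ := hc.exists_generator
    have h1 := orderOf_eq_card_of_forall_mem_zpowers hg
    have h2 : orderOf g ∣ q := orderOf_dvd_of_pow_eq_one (Subtype.ext (hA.2 g g.2))
    have h3 := Nat.le_of_dvd hq.out.pos h2
    rw [h1, hcard] at h3
    exact absurd h3 (not_le.2 (lt_self_pow₀ hq.out.one_lt (by norm_num)))
  have hcopR : ∀ R' : Subgroup Γ, R' ≤ G → ¬ q ∣ Nat.card R' := fun R' h' hd =>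
    hcop (hd.trans (card_dvd_of_le h'))
  refine CfsgLib.LocalEven.CopGen.le_of_fixed hA hnc hAR (hcopR R hR) fun u hu hu1 r hr hur => ?_
  obtain ⟨v₁, hv₁, hv₁u⟩ : ∃ v ∈ A, v ∉ zpowers u := by
    by_contra hc
    push Not at hc
    apply hnc
    rw [le_antisymm hc (zpowers_le.2 hu)]
    infer_instance
  let j : Plane A := ⟨(⟨u, hu⟩, ⟨v₁, hv₁⟩), hu1, hv₁u⟩
  obtain ⟨v₂, hv₂, hv₂j⟩ : ∃ v ∈ A, v ∉ plane j := by
    by_contra hc
    push Not at hc
    have := card_plane hA j
    rw [le_antisymm (plane_le j) hc, hcard] at this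
    exact absurd (Nat.pow_right_injective hq.out.two_le this) (by norm_num)
  have hv₁1 : v₁ ≠ 1 := fun h => hv₁u (h ▸ one_mem _)
  have hv21 : v₂ ∉ zpowers v₁ := fun h => hv₂j (mem_sup_right (show v₂ ∈ zpowers v₁ from h))
  let i : Plane A := ⟨(⟨v₁, hv₁⟩, ⟨v₂, hv₂⟩), hv₁1, hv21⟩
  have hui : u ∉ plane i := by
    intro hmem
    have hle : plane j ≤ plane i :=
      sup_le (zpowers_le.2 hmem) (zpowers_le.2 (mem_sup_left (mem_zpowers v₁)))
    have := eq_of_le_of_card_ge hle (by rw [card_plane hA, card_plane hA])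
    exact hv₂j (this ▸ mem_sup_right (mem_zpowers v₂))
  have helU : IsElementaryAbelian q (plane i) :=
    ⟨⟨⟨fun x y => Subtype.ext
        (CfsgLib.PGroup.elemAb_comm hA (plane_le i x.2) (plane_le i y.2))⟩⟩,
      fun x hx => hA.2 x (plane_le i hx)⟩
  have hncU : ¬ IsCyclic ↥(plane i) := by
    intro hc
    obtain ⟨g, hg⟩ := hc.exists_generator
    have h1 := orderOf_eq_card_of_forall_mem_zpowers hg
    have h2 : orderOf g ∣ q := orderOf_dvd_of_pow_eq_one (Subtype.ext (helU.2 g g.2))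
    have h3 := Nat.le_of_dvd hq.out.pos h2
    rw [h1, card_plane hA] at h3
    exact absurd h3 (not_le.2 (lt_self_pow₀ hq.out.one_lt (by norm_num)))
  have hle : R ⊓ centralizer {u} ≤ H := by
    refine CfsgLib.LocalEven.CopGen.le_of_fixed helU hncU (fun w hw => ?_) (hcopR _ (inf_le_left.trans hR))
      fun w hw hw1 s hs hws => ?_
    · rw [mem_normalizer_iff]
      intro s
      have hwn := mem_normalizer_iff.1 (hAR (plane_le i hw)) s
      have hwc : w ∈ centralizer ({u} : Set Γ) :=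
        mem_centralizer_singleton_iff.2 (CfsgLib.PGroup.elemAb_comm hA (plane_le i hw) hu)
      constructor
      · intro h'; exact ⟨hwn.1 h'.1, mul_mem (mul_mem hwc h'.2) (Subgroup.inv_mem _ hwc)⟩
      · intro h'
        refine ⟨hwn.2 h'.1, ?_⟩
        have := mul_mem (mul_mem (inv_mem hwc) h'.2) hwc
        simpa [mul_assoc] using this
    · have hwu : w ∉ zpowers u := by
        intro hwz
        obtain ⟨n, hn⟩ := mem_zpowers_iff.1 hwz
        apply hui
        have h1 : zpowers w ≤ plane i := zpowers_le.2 hw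
        have h2 : zpowers w ≤ zpowers u := zpowers_le.2 hwz
        have h3 := eq_of_le_of_card_ge h2 (by
          rw [Nat.card_zpowers, Nat.card_zpowers, orderOf_eq_prime (hA.2 w (plane_le i hw)) hw1,
            orderOf_eq_prime (hA.2 u hu) hu1])
        exact h1 (h3 ▸ mem_zpowers u)
      exact h ⟨(⟨u, hu⟩, ⟨w, plane_le i hw⟩), hu1, hwu⟩
        ⟨hs.1, hR hs.1, mem_centralizer_plane (mem_centralizer_singleton_iff.1 hs.2).symm hws⟩
  exact hle ⟨hr, mem_centralizer_singleton_iff.2 hur.symm⟩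

end CfsgLib.FixedDerived
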