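import Cfsg.Agent.Lib.FixedDerived.Bound

/-!
The bound on the derived subgroup.
-/

set_option autoImplicit false

namespace CfsgLib.FixedDerived

open Subgroup Cfsg
open scoped commutatorElement Nat

variable {Γ : Type*} [Group Γ] {q : ℕ} [hq : Fact q.Prime] {A G : Subgroup Γ}

/-- The derived subgroup of the fixed points of `e`, trivial for `e = 1`. -/
noncomputable def derFix (G : Subgroup Γ) (e : Γ) : Subgroup Γ :=
  open scoped Classical in
  if e = 1 then ⊥ else ⁅G ⊓ centralizer {e}, G ⊓ centralizer {e}⁆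

theorem derFix_le (e : Γ) : derFix G e ≤ G := by
  unfold derFix
  split_ifs
  · exact bot_le
  · exact (commutator_le_self _).trans inf_le_left

theorem le_normalizer_derFix [G.Normal] (hA : IsElementaryAbelian q A) {e : Γ} (he : e ∈ A) :
    A ≤ normalizer (derFix G e : Set Γ) := by
  intro u hu
  unfold derFix
  split_ifs with h
  · rw [mem_normalizer_iff]
    intro r
    simp
  · have hC : (G ⊓ centralizer {e}).map (MulAut.conj u : Γ →* Γ) = G ⊓ centralizer {e} := by
      rw [← mem_normalizer_iff_map_conj_eq, mem_normalizer_iff]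
      intro r
      have huc : u ∈ centralizer ({e} : Set Γ) :=
        mem_centralizer_singleton_iff.2 (CfsgLib.PGroup.elemAb_comm hA hu he)
      constructor
      · intro h'
        exact ⟨Normal.conj_mem ‹_› r h'.1 u, mul_mem (mul_mem huc h'.2) (Subgroup.inv_mem _ huc)⟩
      · intro h'
        refine ⟨?_, ?_⟩
        · simpa [mul_assoc] using Normal.conj_mem ‹_› _ h'.1 u⁻¹
        · have := mul_mem (mul_mem (Subgroup.inv_mem _ huc) h'.2) huc
          simpa [mul_assoc] using this
    rw [mem_normalizer_iff_map_conj_eq, map_commutator, hC]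

/-- All values of derived fixed point subgroups. -/
def allDer (A G : Subgroup Γ) : Set Γ :=
  Set.range fun x : (e : A) × derFix G (e : Γ) => (x.2 : Γ)

/-- The fixed generators. -/
def genSet (A G : Subgroup Γ) : Set Γ :=
  {s | s ∈ allDer A G ∧ ∃ i : Plane A, s ∈ fixG G i}

theorem comm_mem_derFix {e x s : Γ} (he : e ≠ 1) (hx : x ∈ G ⊓ centralizer {e})
    (hs : s ∈ G ⊓ centralizer {e}) : ⁅x, s⁆ ∈ derFix G e := by
  unfold derFix
  rw [if_neg he]
  exact commutator_mem_commutator hx hs

variable [Finite Γ]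

omit [Finite Γ] in
theorem fixG_le_centralizer {e : Γ} {i : Plane A} (he : e ∈ plane i) :
    fixG G i ≤ G ⊓ centralizer {e} :=
  inf_le_inf_left _ (centralizer_le (Set.singleton_subset_iff.2 he))

theorem comm_fix (hA : IsElementaryAbelian q A) (hcard : Nat.card A = q ^ 3) {i j : Plane A}
    {x s : Γ} (hx : x ∈ fixG G i) (hs : s ∈ fixG G j) : ∃ e ∈ A, ⁅x, s⁆ ∈ derFix G e := by
  obtain ⟨e, he, he1, hei, hej⟩ := exists_common hA hcard i j
  exact ⟨e, he, comm_mem_derFix he1 (fixG_le_centralizer hei hx) (fixG_le_centralizer hej hs)⟩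

/-- A bound for the derived subgroup. -/
def derBound (q m : ℕ) : ℕ :=
  let N := q ^ 3 * (m + 1)
  let I := ((N ^ N) ^ q ^ 6)!
  (m + 1) ^ N * (Finset.range (I * I + 1)).sup Subgroup.cardCommutatorBound

theorem derived_bound [G.Normal] (m : ℕ) (hA : IsElementaryAbelian q A)
    (hcard : Nat.card A = q ^ 3) (hcop : ¬ q ∣ Nat.card G)
    (hm : ∀ e ∈ A, e ≠ 1 → Nat.card ↥(⁅G ⊓ centralizer {e}, G ⊓ centralizer {e}⁆) ≤ m) :
    Nat.card ↥(⁅G, G⁆) ≤ derBound q m := by
  classical
  haveI : Finite (Plane A) := Subtype.finite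
  haveI : Fintype (Plane A) := Fintype.ofFinite _
  set N := q ^ 3 * (m + 1) with hN
  have hNpos : 0 < N := Nat.mul_pos (pow_pos hq.out.pos 3) (by omega)
  set F := (N ^ N) ^ q ^ 6 with hF
  have hAG : A ≤ normalizer (G : Set Γ) := by rw [normalizer_eq_top]; exact le_top
  have hder : ∀ e ∈ A, Nat.card (derFix G e) ≤ m + 1 := by
    intro e he
    by_cases h : e = 1
    · rw [derFix, if_pos h, card_bot]; omega
    · rw [derFix, if_neg h]; exact (hm e he h).trans (by omega)
  -- the sets
  have hW : Nat.card (allDer A G) ≤ N := by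
    refine le_trans (Finite.card_range_le _) ?_
    haveI : Fintype A := Fintype.ofFinite _
    rw [Nat.card_sigma]
    refine (Finset.sum_le_sum fun e _ => hder e.1 e.2).trans ?_
    rw [Finset.sum_const, smul_eq_mul, Finset.card_univ, ← Nat.card_eq_fintype_card, hcard]
  have hT : Nat.card (genSet A G) ≤ N :=
    (Nat.card_mono (Set.toFinite _) fun s hs => hs.1).trans hW
  set D := closure (genSet A G) with hD
  have hDG : D ≤ G := by
    rw [hD, closure_le]
    rintro s ⟨-, i, hi⟩
    exact hi.1
  have hderD : ∀ e ∈ A, derFix G e ≤ D := fun e he =>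
    le_of_planes hA hcard hcop (derFix_le e) (le_normalizer_derFix hA he) fun i s hs =>
      subset_closure ⟨⟨⟨⟨e, he⟩, ⟨s, hs.1⟩⟩, rfl⟩, i, hs.2⟩
  have hcommD : ∀ (i : Plane A), ∀ x ∈ fixG G i, ∀ s ∈ genSet A G, ⁅x, s⁆ ∈ D := by
    rintro i x hx s ⟨-, j, hj⟩
    obtain ⟨e, he, h⟩ := comm_fix hA hcard hx hj
    exact hderD e he h
  -- `D` is normal in `G`
  have hfw : ∀ (i : Plane A), ∀ x ∈ fixG G i, ∀ d ∈ D, x * d * x⁻¹ ∈ D := by
    intro i x hx d hd
    have hle : D ≤ D.comap (MulAut.conj x).toMonoidHom := by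
      conv_lhs => rw [hD]
      rw [closure_le]
      intro s hs
      show x * s * x⁻¹ ∈ D
      have := mul_mem (hcommD i x hx s hs) (show s ∈ D from subset_closure hs)
      simpa [commutatorElement_def, mul_assoc] using this
    exact hle hd
  have hGD : G ≤ normalizer (D : Set Γ) :=
    le_of_planes hA hcard hcop le_rfl hAG fun i x hx => by
      rw [mem_normalizer_iff]
      intro d
      refine ⟨hfw i x hx.2 d, fun h => ?_⟩
      have := hfw i x⁻¹ (inv_mem hx.2) _ h
      simpa [mul_assoc] using this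
  haveI hDn : (D.subgroupOf G).Normal :=
    ⟨fun d hd g => (mem_normalizer_iff.1 (hGD g.2) (d : Γ)).1 hd⟩
  -- `G'` lies in `D`
  have hcomm : ∀ i j : Plane A, ∀ x (hx : x ∈ fixG G i) (y : Γ) (hy : y ∈ fixG G j),
      Commute (QuotientGroup.mk' (D.subgroupOf G) ⟨x, hx.1⟩)
        (QuotientGroup.mk' (D.subgroupOf G) ⟨y, hy.1⟩) := by
    intro i j x hx y hy
    rw [← commutatorElement_eq_one_iff_commute, ← map_commutatorElement, QuotientGroup.mk'_apply,
      QuotientGroup.eq_one_iff]
    obtain ⟨e, he, h⟩ := comm_fix hA hcard hx hy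
    show ((⁅(⟨x, hx.1⟩ : G), ⟨y, hy.1⟩⁆ : G) : Γ) ∈ D
    exact hderD e he h
  have hcent : ∀ g : G, QuotientGroup.mk' (D.subgroupOf G) g ∈ center (G ⧸ D.subgroupOf G) := by
    let mk := QuotientGroup.mk' (D.subgroupOf G)
    have h1 : ∀ (i : Plane A) (x : Γ) (hx : x ∈ fixG G i), ∀ g : G,
        Commute (mk ⟨x, hx.1⟩) (mk g) := by
      intro i x hx g
      have hle : G ≤ ((centralizer {mk ⟨x, hx.1⟩}).comap mk).map G.subtype :=
        le_of_planes hA hcard hcop le_rfl hAG fun j y hy =>
          ⟨⟨y, hy.1⟩, mem_centralizer_singleton_iff.2 (hcomm i j x hx y hy.2).symm.eq, rfl⟩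
      obtain ⟨g', hg', he⟩ := hle g.2
      rw [← Subtype.ext (show (g' : Γ) = g from he)]
      exact (mem_centralizer_singleton_iff.1 hg').symm
    intro g
    have hle : G ≤ ((center _).comap mk).map G.subtype :=
      le_of_planes hA hcard hcop le_rfl hAG fun j y hy =>
        ⟨⟨y, hy.1⟩, mem_center_iff.2 fun z => by
          obtain ⟨g', rfl⟩ := QuotientGroup.mk'_surjective _ z
          exact (h1 j y hy.2 g').symm.eq, rfl⟩
    obtain ⟨g', hg', he⟩ := hle g.2
    rw [← Subtype.ext (show (g' : Γ) = g from he)]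
    exact hg'
  have hGG : ⁅G, G⁆ ≤ D := by
    rw [commutator_le]
    intro g hg h hh
    have h1 : QuotientGroup.mk' (D.subgroupOf G) ⁅(⟨g, hg⟩ : G), ⟨h, hh⟩⁆ = 1 := by
      rw [map_commutatorElement, commutatorElement_eq_one_iff_mul_comm]
      exact (mem_center_iff.1 (hcent ⟨g, hg⟩) _).symm
    exact (QuotientGroup.eq_one_iff (N := D.subgroupOf G) _).1 h1
  -- the quotient by the centraliser of `D`
  set K := (centralizer (D : Set Γ)).subgroupOf G with hK
  haveI : K.Normal := ⟨fun c hc g => by
    show (g : Γ) * c * (g : Γ)⁻¹ ∈ centralizer (D : Set Γ)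
    rw [mem_centralizer_iff]
    intro d hd
    have hc' := mem_centralizer_iff.1 (show (c : Γ) ∈ centralizer (D : Set Γ) from hc) _
      ((mem_normalizer_iff''.1 (hGD g.2) d).1 hd)
    calc d * ((g : Γ) * c * (g : Γ)⁻¹) = g * ((g : Γ)⁻¹ * d * g * c) * (g : Γ)⁻¹ := by group
      _ = g * (c * ((g : Γ)⁻¹ * d * g)) * (g : Γ)⁻¹ := by rw [hc']
      _ = g * c * (g : Γ)⁻¹ * d := by group⟩
  set π := QuotientGroup.mk' K with hπ
  let im : Subgroup Γ → Subgroup (G ⧸ K) := fun P => (P.subgroupOf G).map π
  have him_mono : ∀ {P Q : Subgroup Γ}, P ≤ Q → im P ≤ im Q := fun h =>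
    map_mono fun x hx => h hx
  have hfixim : ∀ i : Plane A, Nat.card (im (fixG G i)) ≤ N ^ N := by
    intro i
    have hex : ∀ y : im (fixG G i), ∃ x : G, (x : Γ) ∈ fixG G i ∧ π x = y := fun y => by
      obtain ⟨x, hx, h⟩ := y.2
      exact ⟨x, hx, h⟩
    choose pre hpre hpreπ using hex
    let Φ : im (fixG G i) → (genSet A G → allDer A G) := fun y s =>
      ⟨⁅((pre y : G) : Γ), (s : Γ)⁆, by
        obtain ⟨-, j, hj⟩ := s.2
        obtain ⟨e, he, h⟩ := comm_fix hA hcard (hpre y) hj
        exact ⟨⟨⟨e, he⟩, ⟨_, h⟩⟩, rfl⟩⟩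
    have hΦ : Function.Injective Φ := by
      intro y y' h
      apply Subtype.ext
      rw [← hpreπ y, ← hpreπ y', hπ, QuotientGroup.mk'_apply, QuotientGroup.mk'_apply,
        QuotientGroup.eq, hK, mem_subgroupOf, hD, centralizer_closure, mem_centralizer_iff]
      intro s hs
      have h' : ⁅((pre y : G) : Γ), s⁆ = ⁅((pre y' : G) : Γ), s⁆ :=
        congrArg Subtype.val (congrFun h ⟨s, hs⟩)
      rw [commutatorElement_def, commutatorElement_def] at h'
      have h'' := mul_right_cancel h'
      rw [Subgroup.coe_mul, Subgroup.coe_inv]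
      set a := ((pre y : G) : Γ)
      set b := ((pre y' : G) : Γ)
      calc s * (a⁻¹ * b) = a⁻¹ * (a * s * a⁻¹) * b := by group
        _ = a⁻¹ * (b * s * b⁻¹) * b := by rw [h'']
        _ = a⁻¹ * b * s := by group
    refine (Nat.card_le_card_of_injective Φ hΦ).trans ?_
    rw [Nat.card_fun]
    exact (Nat.pow_le_pow_left hW _).trans (Nat.pow_le_pow_right hNpos hT)
  -- the bound for an invariant `r`-subgroup
  have hstep : ∀ (r n : ℕ) (P : Subgroup Γ), r.Prime → Nat.card P ≤ n → IsPGroup r P → P ≤ G →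
      A ≤ normalizer (P : Set Γ) → Nat.card (im P) ≤ ∏ i : Plane A, Nat.card (im (P ⊓ fixG G i)) := by
    intro r n
    induction n with
    | zero => intro P _ hn; exact absurd hn (by have := Nat.card_pos (α := P); omega)
    | succ n ih =>
      intro P hr hn hP hPG hAP
      haveI : Fact r.Prime := ⟨hr⟩
      by_cases hbot : P = ⊥
      · have hib : im P = ⊥ := by simp [im, hbot]
        rw [hib, card_bot]
        exact Finset.one_le_prod' fun i _ => Nat.card_pos
      haveI : Nontrivial P := (nontrivial_iff_ne_bot P).2 hbot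
      haveI : Group.IsNilpotent P := hP.isNilpotent
      have hlt : ⁅P, P⁆ < P := by
        refine lt_of_le_of_ne (commutator_le_self P) fun h =>
          (Group.IsSolvable.commutator_lt_top_of_nontrivial ↥P).ne ?_
        apply map_injective P.subtype_injective
        rw [map_subtype_commutator, h, ← MonoidHom.range_eq_map, range_subtype]
      have hcardlt : Nat.card ↥⁅P, P⁆ < Nat.card P :=
        lt_of_le_of_ne (card_le_of_le hlt.le) fun h =>
          hlt.ne (eq_of_le_of_card_ge hlt.le h.ge)
      have hAP' : A ≤ normalizer ((⁅P, P⁆ : Subgroup Γ) : Set Γ) := fun u hu => by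
        rw [mem_normalizer_iff_map_conj_eq, map_commutator, mem_normalizer_iff_map_conj_eq.1 (hAP hu)]
      have hIH := ih ⁅P, P⁆ hr (by omega) (hP.to_le hlt.le) (hlt.le.trans hPG) hAP'
      set Q := im P with hQ
      have hC : im ⁅P, P⁆ = ⁅Q, Q⁆ := by
        show (⁅P, P⁆.subgroupOf G).map π = ⁅(P.subgroupOf G).map π, (P.subgroupOf G).map π⁆
        rw [← map_commutator]
        congr 1
        apply map_injective G.subtype_injective
        rw [map_commutator, subgroupOf_map_subtype, subgroupOf_map_subtype,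
          inf_eq_left.2 hPG, inf_eq_left.2 (hlt.le.trans hPG)]
      have hgen : Q ≤ ⨆ i : Plane A, im (P ⊓ fixG G i) := by
        have hle : P ≤ ((⨆ i : Plane A, im (P ⊓ fixG G i)).comap π).map G.subtype :=
          le_of_planes hA hcard hcop hPG hAP fun i y hy =>
            ⟨⟨y, hPG hy.1⟩, mem_iSup_of_mem i ⟨⟨y, hPG hy.1⟩, hy, rfl⟩, rfl⟩
        rintro _ ⟨x, hx, rfl⟩
        obtain ⟨x', hx', he⟩ := hle hx
        rw [← Subtype.ext (show (x' : Γ) = x from he)]
        exact hx'
      have hZQ : ∀ i : Plane A, im (P ⊓ fixG G i) ≤ Q := fun i => him_mono inf_le_left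
      let L : Plane A → Subgroup (Abelianization ↥Q) := fun i =>
        ((im (P ⊓ fixG G i)).subgroupOf Q).map Abelianization.of
      have hL : (⊤ : Subgroup (Abelianization ↥Q)) ≤ ⨆ i : Plane A, L i := by
        have htop : (⨆ i : Plane A, (im (P ⊓ fixG G i)).subgroupOf Q) = ⊤ := by
          apply map_injective Q.subtype_injective
          rw [Subgroup.map_iSup, ← MonoidHom.range_eq_map, range_subtype]
          simp only [subgroupOf_map_subtype, inf_eq_left.2 (hZQ _)]
          exact le_antisymm (iSup_le hZQ) hgen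
        show ⊤ ≤ ⨆ i : Plane A, ((im (P ⊓ fixG G i)).subgroupOf Q).map Abelianization.of
        rw [← Subgroup.map_iSup, htop, map_top_of_surjective _ QuotientGroup.mk_surjective]
      have hab := card_le_prod_of_top L hL
      have hZ : ∀ i : Plane A, Nat.card (L i) * Nat.card (im (⁅P, P⁆ ⊓ fixG G i)) ≤
          Nat.card (im (P ⊓ fixG G i)) := by
        intro i
        set Zq := (im (P ⊓ fixG G i)).subgroupOf Q
        let f := Abelianization.of.comp Zq.subtype
        have h1 : Nat.card Zq = Nat.card (L i) * Nat.card f.ker := by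
          rw [card_eq_card_quotient_mul_card_subgroup f.ker,
            Nat.card_congr (QuotientGroup.quotientKerEquivRange f).toEquiv,
            show L i = f.range by
              rw [MonoidHom.range_comp, range_subtype]]
        have h1' : Nat.card Zq = Nat.card (im (P ⊓ fixG G i)) :=
          Nat.card_congr (subgroupOfEquivOfLe (hZQ i)).toEquiv
        have h2 : Nat.card (im (⁅P, P⁆ ⊓ fixG G i)) ≤ Nat.card f.ker := by
          have hle : im (⁅P, P⁆ ⊓ fixG G i) ≤ im (P ⊓ fixG G i) :=
            him_mono (inf_le_inf_right _ hlt.le)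
          refine Nat.card_le_card_of_injective
            (fun z => ⟨⟨⟨z, hZQ i (hle z.2)⟩, hle z.2⟩, ?_⟩) fun z z' h => ?_
          · rw [MonoidHom.mem_ker]
            show Abelianization.of (⟨(z : G ⧸ K), _⟩ : ↥Q) = 1
            rw [← MonoidHom.mem_ker, Abelianization.ker_of, ← mem_map_iff_mem Q.subtype_injective,
              map_subtype_commutator, ← hC]
            exact him_mono inf_le_left z.2
          · exact Subtype.ext (congrArg (fun w => (w.1.1 : G ⧸ K)) h)
        rw [← h1', h1]
        exact Nat.mul_le_mul_left _ h2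
      have hcomq : Nat.card (commutator ↥Q) = Nat.card (im ⁅P, P⁆) := by
        rw [← card_map_of_injective Q.subtype_injective, map_subtype_commutator, hC]
      calc Nat.card Q = Nat.card (Abelianization ↥Q) * Nat.card (commutator ↥Q) :=
            card_eq_card_quotient_mul_card_subgroup _
        _ ≤ (∏ i : Plane A, Nat.card (L i)) * ∏ i : Plane A, Nat.card (im (⁅P, P⁆ ⊓ fixG G i)) :=
            Nat.mul_le_mul hab (hcomq ▸ hIH)
        _ ≤ _ := by
            rw [← Finset.prod_mul_distrib]
            exact Finset.prod_le_prod' fun i _ => hZ i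
  -- the index of the centraliser
  have hPl : Nat.card (Plane A) ≤ q ^ 6 := by
    refine (Finite.card_subtype_le _).trans ?_
    rw [Nat.card_prod, hcard, ← pow_add]
  have hI : Nat.card (G ⧸ K) ≤ F ! := by
    refine Nat.le_of_dvd (Nat.factorial_pos _) ((Nat.dvd_iff_prime_pow_dvd_dvd _ _).2 fun r k hr hrk => ?_)
    haveI : Fact r.Prime := ⟨hr⟩
    have hAsol : Group.IsSolvable A := by
      haveI := (CfsgLib.PGroup.elemAb_isPGroup hA).isNilpotent
      infer_instance
    obtain ⟨P, hP⟩ := CfsgLib.Solvable.exists_invariant_sylow A G hAG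
      (by rw [hcard]; exact (hq.out.coprime_iff_not_dvd.2 hcop).pow_left 3) (Or.inl hAsol) r
    have hb := hstep r _ _ hr le_rfl (P.2.map G.subtype) (map_subtype_le _) hP
    have himP : im ((P : Subgroup G).map G.subtype) = (P : Subgroup G).map π := by
      show ((((P : Subgroup G).map G.subtype).subgroupOf G)).map π = _
      rw [subgroupOf, comap_map_eq_self_of_injective G.subtype_injective]
    rw [himP] at hb
    have hbF : Nat.card ((P : Subgroup G).map π) ≤ F := by
      refine hb.trans ((Finset.prod_le_prod' fun i _ =>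
        (card_le_of_le (him_mono inf_le_right)).trans (hfixim i)).trans ?_)
      rw [Finset.prod_const, Finset.card_univ, ← Nat.card_eq_fintype_card]
      exact Nat.pow_le_pow_right (pow_pos hNpos _) hPl
    rcases Nat.eq_zero_or_pos k with rfl | hk
    · simp
    have hidx : (r ^ k).Coprime ((P : Subgroup G).map π).index :=
      (hr.coprime_iff_not_dvd.2 fun h => P.not_dvd_index
        (h.trans (index_map_dvd (f := π) _ (QuotientGroup.mk'_surjective K)))).pow_left k
    have hdvd : r ^ k ∣ Nat.card ((P : Subgroup G).map π) :=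
      hidx.dvd_of_dvd_mul_right (by rw [card_mul_index]; exact hrk)
    exact Nat.dvd_factorial (pow_pos hr.pos k) ((Nat.le_of_dvd Nat.card_pos hdvd).trans hbF)
  -- the order of `D`
  let ρ : ↥D →* G ⧸ K := π.comp (inclusion hDG)
  have hρ : ρ.ker ≤ center ↥D := by
    intro z hz
    rw [MonoidHom.mem_ker, MonoidHom.comp_apply, hπ, QuotientGroup.mk'_apply,
      QuotientGroup.eq_one_iff, hK, mem_subgroupOf] at hz
    exact mem_center_iff.2 fun d => Subtype.ext (mem_centralizer_iff.1 hz _ d.2)
  have hcs := (card_commutatorSet_le ρ hρ).trans (Nat.mul_le_mul hI hI)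
  have hc1 : Nat.card (commutator ↥D) ≤
      (Finset.range (F ! * F ! + 1)).sup Subgroup.cardCommutatorBound :=
    (card_commutator_le_of_finite_commutatorSet ↥D).trans
      (Finset.le_sup (f := Subgroup.cardCommutatorBound) (Finset.mem_range.2 (by omega)))
  have hc2 : Nat.card (Abelianization ↥D) ≤ (m + 1) ^ N := by
    refine card_abelianization_le (by omega) ((fun d : D => (d : Γ)) ⁻¹' genSet A G) ?_ ?_ ?_
    · exact closure_closure_coe_preimage
    · refine le_trans ?_ hT
      exact Nat.card_le_card_of_injective (fun d => ⟨(d.1 : Γ), d.2⟩) fun d d' h => by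
        apply Subtype.ext; apply Subtype.ext
        simpa using congrArg Subtype.val h
    · rintro t ⟨⟨⟨e, w⟩, hw⟩, -⟩
      rw [← orderOf_submonoid, show ((t : Γ)) = (w : Γ) from hw.symm, orderOf_submonoid]
      exact (Nat.le_of_dvd Nat.card_pos (orderOf_dvd_natCard w)).trans (hder e e.2)
  calc Nat.card ↥⁅G, G⁆ ≤ Nat.card D := card_le_of_le hGG
    _ = Nat.card (Abelianization ↥D) * Nat.card (commutator ↥D) :=
        card_eq_card_quotient_mul_card_subgroup _
    _ ≤ _ := Nat.mul_le_mul hc2 hc1

end CfsgLib.FixedDerived
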